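import Groth.Agent.ArtKit.Formal
import Groth.Prelude.Def_ArtFun3
import Groth.Agent.ObsBound.Basic
import Mathlib.RingTheory.Regular.RegularSequence
import Mathlib.RingTheory.KrullDimension.Regular
import Mathlib.Algebra.Module.SpanRankOperations

/-!
# An obstruction theory of a functor bounds the equations of a ring with a lifting family
-/

set_option autoImplicit false
universe u v

noncomputable section
open CategoryTheory IsLocalRing ArtFun
open scoped TensorProduct

namespace Groth.Agent.ArtObs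

variable {k : Type u} [Field k]

/-- The relations of a ring carrying a versal family are bounded by the obstruction space. -/
theorem exists_small_relations {P R : Type u} [CommRing P] [IsLocalRing P] [IsNoetherianRing P] [Algebra k P]
    [CommRing R] [Algebra k R] (resP : P →ₐ[k] k) {resR : R →ₐ[k] k} (q : P →ₐ[k] R)
    (hq : Function.Surjective q) (hqres : resR.comp q = resP)
    (hsq : RingHom.ker q ≤ maximalIdeal P ^ 2)
    {F : Art k k ⥤ Type v} (ξ : Family R resR F) (hξ : IsVersal ξ)
    (V : Type u) [AddCommGroup V] [Module k V] [Module.Finite k V] (T : ObsTheory F V) :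
    ∃ s : Finset P, Ideal.span (s : Set P) = RingHom.ker q ∧ s.card ≤ Module.finrank k V := by
  classical
  set m := maximalIdeal P
  set I := RingHom.ker q
  have hres : Function.Surjective resP := fun c => ⟨algebraMap k P c, resP.commutes c⟩
  have hmk : RingHom.ker resP = m := IsLocalRing.eq_maximalIdeal (RingHom.ker_isMaximal_of_surjective _ hres)
  have hIm : I ≤ m := hsq.trans (Ideal.pow_le_self two_ne_zero)
  obtain ⟨c, hc⟩ := m.exists_pow_inf_eq_pow_smul (M := P) I
  have hAR : m ^ (c + 1) ⊓ I ≤ m * I := by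
    have h1 := hc (c + 1) (Nat.le_succ c)
    rw [Nat.add_sub_cancel_left, pow_one, Ideal.smul_eq_mul, Ideal.smul_eq_mul, Ideal.mul_top] at h1
    rw [h1]
    exact Ideal.mul_mono le_rfl inf_le_right
  let K₀ : Ideal P := m * I ⊔ m ^ (c + 1)
  have hK₀ : K₀ ≤ m := sup_le (Ideal.mul_le_right.trans hIm) (Ideal.pow_le_self (Nat.succ_ne_zero c))
  have : Nontrivial (P ⧸ K₀) := Ideal.Quotient.nontrivial_iff.2 fun h =>
    (maximalIdeal.isMaximal P).ne_top (top_le_iff.1 (h ▸ hK₀))
  have hloc : IsLocalRing (P ⧸ K₀) := .of_surjective' (Ideal.Quotient.mk K₀) Ideal.Quotient.mk_surjective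
  have hmC : maximalIdeal (P ⧸ K₀) = m.map (Ideal.Quotient.mk K₀) :=
    (IsLocalRing.map_maximalIdeal_of_surjective _ Ideal.Quotient.mk_surjective).symm
  have hart : IsArtinianRing (P ⧸ K₀) := by
    rw [isArtinianRing_iff_isNilpotent_maximalIdeal]
    refine ⟨c + 1, ?_⟩
    rw [hmC, ← Ideal.map_pow, Ideal.zero_eq_bot, Ideal.map_eq_bot_iff_le_ker, Ideal.mk_ker]
    exact le_sup_right
  let C' : Art k k := Art.of (P ⧸ K₀)
    (Ideal.Quotient.liftₐ K₀ resP fun a ha => by rw [← RingHom.mem_ker, hmk]; exact hK₀ ha)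
    (fun c => ⟨algebraMap k _ c, AlgHom.commutes _ c⟩)
  let π : P →ₐ[k] C' := Ideal.Quotient.mkₐ k K₀
  have hπ : Function.Surjective π := Ideal.Quotient.mk_surjective
  let J : Ideal C' := I.map π
  have hJm : J ≤ maximalIdeal C' := Ideal.map_le_iff_le_comap.2 fun a ha => by
    rw [Ideal.mem_comap, Art.mem_maximalIdeal_iff]
    show resP a = 0
    rw [← RingHom.mem_ker, hmk]
    exact hIm ha
  have hmJ : maximalIdeal C' * J = ⊥ := by
    show maximalIdeal (P ⧸ K₀) * I.map (Ideal.Quotient.mk K₀) = ⊥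
    rw [hmC, ← Ideal.map_mul, Ideal.map_eq_bot_iff_le_ker, Ideal.mk_ker]
    exact le_sup_left
  let C := Art.quot C' J hJm
  let p : C' ⟶ C := Art.quotMk C' J hJm
  have hpk : RingHom.ker p.toAlgHom = J := Ideal.mk_ker
  have hp : Art.IsSemismallExt p := ⟨Art.quotMk_surjective C' J hJm, by rw [hpk, hmJ]⟩
  -- the tautological point
  let φ₀ : R →ₐ[k] C := (Ideal.Quotient.liftₐ I (p.toAlgHom.comp π) fun a ha =>
    Ideal.Quotient.eq_zero_iff_mem.2 (Ideal.mem_map_of_mem π ha)).comp
    (Ideal.quotientKerAlgEquivOfSurjective hq).symm.toAlgHom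
  have hφ₀ : ∀ a, φ₀ (q a) = p (π a) := fun a => by
    have h1 : (Ideal.quotientKerAlgEquivOfSurjective hq).symm (q a) = Ideal.Quotient.mk _ a :=
      (AlgEquiv.symm_apply_eq _).2 rfl
    simp only [φ₀, AlgHom.comp_apply, AlgEquiv.toAlgHom_eq_coe, AlgHom.coe_coe]
    refine (congrArg _ h1).trans ?_
    rfl
  let φ : HomSet R resR C := ⟨φ₀, AlgHom.ext fun y => by
    obtain ⟨a, rfl⟩ := hq y
    rw [AlgHom.comp_apply, hφ₀, Art.res_app, ← AlgHom.comp_apply resR q, hqres]
    rfl⟩
  let bV := Module.finBasis k V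
  obtain ⟨j, hj⟩ := ObsBound.exists_coords bV (T.obs p hp (ξ.app C φ))
  let K : Ideal C' := Ideal.span (Set.range fun i => (j i : C'))
  have hKJ : K ≤ RingHom.ker p.toAlgHom := Ideal.span_le.2 (by rintro _ ⟨i, rfl⟩; exact (j i).2)
  have hKm : K ≤ maximalIdeal C' := hKJ.trans (hpk.le.trans hJm)
  let p' : Art.quot C' K hKm ⟶ C := Art.quotFactor hKm p hKJ
  let σ : C' ⟶ Art.quot C' K hKm := Art.quotMk C' K hKm
  have hp'σ : ∀ x, p' (σ x) = p x := fun x =>
    congrArg (fun f : C' ⟶ C => f x) (Art.quotMk_quotFactor hKm p hKJ)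
  have hkill : ∀ x ∈ maximalIdeal (Art.quot C' K hKm), ∀ y, p' y = 0 → x * y = 0 := by
    intro x hx y hy
    obtain ⟨x, rfl⟩ := Art.quotMk_surjective C' K hKm x
    obtain ⟨y, rfl⟩ := Art.quotMk_surjective C' K hKm y
    have hx' : x ∈ maximalIdeal C' := by
      rw [Art.mem_maximalIdeal_iff] at hx ⊢
      exact (Art.res_app σ x).symm.trans hx
    have hy' : y ∈ RingHom.ker p.toAlgHom := RingHom.mem_ker.2 ((hp'σ y).symm.trans hy)
    have h0 : x * y = 0 := Ideal.mem_bot.1 (hp.2 ▸ Ideal.mul_mem_mul hx' hy')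
    rw [← map_mul, h0, map_zero]
  have hp's : Function.Surjective p' := fun z => by
    obtain ⟨x, hx⟩ := hp.1 z
    exact ⟨σ x, (hp'σ x).trans hx⟩
  have hq' : Art.IsSemismallExt p' := ⟨hp's, le_bot_iff.1 (Ideal.mul_le.2 fun x hx y hy =>
    Ideal.mem_bot.2 (hkill x hx y (RingHom.mem_ker.1 hy)))⟩
  have hzero : T.obs p' hq' (ξ.app C φ) = 0 := by
    rw [T.obs_quot p hp K hKm hKJ hq', hj, map_sum]
    refine Finset.sum_eq_zero fun i _ => ?_
    rw [LinearMap.lTensor_tmul, show (Art.kerToQuot hKm p hKJ).restrictScalars k (j i) = 0 from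
      Subtype.ext (Ideal.Quotient.eq_zero_iff_mem.2 (Ideal.subset_span ⟨i, rfl⟩)), TensorProduct.tmul_zero]
  obtain ⟨y, hy⟩ := (T.obs_eq_zero_iff p' hq' _).1 hzero
  obtain ⟨ψ, hψ, -⟩ := hξ p' hp's φ y hy
  let g : P →ₐ[k] (Art.quot C' K hKm).carrier := ψ.1.comp q
  let h : P →ₐ[k] (Art.quot C' K hKm).carrier := σ.toAlgHom.comp π
  have hgh : ∀ a, p' (g a) = p' (h a) := fun a => by
    refine Eq.trans ?_ ((hφ₀ a).trans (hp'σ (π a)).symm)
    exact DFunLike.congr_fun (congrArg Subtype.val hψ) (q a)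
  have hdiff : ∀ a, p' (g a - h a) = 0 := fun a => by rw [map_sub, hgh, sub_self]
  have hresg : ∀ a ∈ m, g a ∈ maximalIdeal (Art.quot C' K hKm) ∧ h a ∈ maximalIdeal (Art.quot C' K hKm) :=
      fun a ha => by
    rw [← hmk, RingHom.mem_ker] at ha
    have h2 : h a ∈ maximalIdeal (Art.quot C' K hKm) := by
      rw [Art.mem_maximalIdeal_iff]; exact (Art.res_app σ (π a)).trans ha
    refine ⟨?_, h2⟩
    rw [Art.mem_maximalIdeal_iff] at h2 ⊢
    rwa [← Art.res_app p', hgh, Art.res_app]
  have hsame : ∀ a ∈ m ^ 2, g a = h a := by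
    intro a ha
    rw [pow_two] at ha
    induction ha using Submodule.mul_induction_on' with
    | mem_mul_mem a ha b hb =>
      have e1 := hkill _ (hresg a ha).1 _ (hdiff b)
      have e2 := hkill _ (hresg b hb).2 _ (hdiff a)
      rw [map_mul, map_mul]
      linear_combination e1 + e2
    | add a _ b _ ha hb => rw [map_add, map_add, ha, hb]
  have hIK : ∀ i ∈ I, π i ∈ K := fun i hi => by
    refine Ideal.Quotient.eq_zero_iff_mem.1 ?_
    show h i = 0
    rw [← hsame i (hsq hi)]
    show ψ.1 (q i) = 0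
    rw [RingHom.mem_ker.1 hi, map_zero]
  choose t ht htj using fun i => (Ideal.mem_map_iff_of_surjective _ hπ).1 (hpk.le (j i).2)
  let s : Finset P := Finset.univ.image t
  have hsI : Ideal.span (s : Set P) ≤ I := Ideal.span_le.2 fun z hz => by
    obtain ⟨i, -, rfl⟩ := Finset.mem_image.1 (Finset.mem_coe.1 hz)
    exact ht i
  refine ⟨s, le_antisymm hsI ?_, Finset.card_image_le.trans (by simp)⟩
  refine Submodule.le_of_le_smul_of_le_jacobson_bot (I := m) (IsNoetherian.noetherian I)
    (maximalIdeal_le_jacobson _) fun x hx => ?_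
  have hs : (Ideal.span (s : Set P)).map π = K := by
    rw [Ideal.map_span, Finset.coe_image, Finset.coe_univ, Set.image_univ, ← Set.range_comp]
    exact congrArg Ideal.span (congrArg Set.range (funext htj))
  obtain ⟨z, hz, hze⟩ := (Ideal.mem_map_iff_of_surjective _ hπ).1 (hs ▸ hIK x hx)
  obtain ⟨a, ha, b, hb, hab⟩ := Submodule.mem_sup.1 (Ideal.Quotient.eq.1 hze.symm : x - z ∈ K₀)
  have hbI : b ∈ I := by
    rw [show b = x - z - a by rw [← hab]; ring]
    exact sub_mem (sub_mem hx (hsI hz)) (Ideal.mul_le_right ha)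
  refine Submodule.mem_sup.2 ⟨z, hz, a + b, ?_, by rw [hab]; ring⟩
  exact Submodule.add_mem _ ha (hAR ⟨hb, hbI⟩)

/-- Dimension estimates from a bound on the relations. -/
theorem estimates {P R : Type u} [CommRing P] [IsRegularLocalRing P] [CommRing R] [IsLocalRing R] [IsNoetherianRing R]
    (q : P →+* R) (hq : Function.Surjective q) (hsq : RingHom.ker q ≤ maximalIdeal P ^ 2)
    (s : Finset P) (hs : Ideal.span (s : Set P) = RingHom.ker q) (r : ℕ) (hr : s.card ≤ r) :
    ringKrullDim R ≤ (Module.finrank (ResidueField R) (CotangentSpace R) : WithBot ℕ∞) ∧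
      (Module.finrank (ResidueField R) (CotangentSpace R) : WithBot ℕ∞) ≤ ringKrullDim R + (r : WithBot ℕ∞) ∧
      (r = 0 → IsRegularLocalRing R) ∧
      (ringKrullDim R + (r : WithBot ℕ∞) = (Module.finrank (ResidueField R) (CotangentSpace R) : WithBot ℕ∞) →
        ∃ (P : Type u) (_ : CommRing P) (_ : IsRegularLocalRing P) (π : P →+* R) (s : Finset P),
          Function.Surjective π ∧ Ideal.span (s : Set P) = RingHom.ker π ∧
            ringKrullDim P = ringKrullDim R + (s.card : WithBot ℕ∞)) := by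
  classical
  have hmR : (maximalIdeal P).map q = maximalIdeal R := IsLocalRing.map_maximalIdeal_of_surjective q hq
  have hd : (maximalIdeal R).spanFinrank = (maximalIdeal P).spanFinrank := by
    refine le_antisymm ?_ ?_
    · obtain ⟨t, htc, hts⟩ := Submodule.FG.exists_span_finset_card_eq_spanFinrank (IsNoetherian.noetherian (maximalIdeal P))
      have : maximalIdeal R = Ideal.span (q '' (t : Set P)) := by
        rw [← hmR, ← Ideal.map_span]; exact congrArg (Ideal.map q) hts.symm
      rw [this, ← htc]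
      exact (Submodule.spanFinrank_span_le_ncard_of_finite (t.finite_toSet.image q)).trans
        ((Set.ncard_image_le t.finite_toSet).trans (Set.ncard_coe_finset _).le)
    · obtain ⟨t, htc, hts⟩ := Submodule.FG.exists_span_finset_card_eq_spanFinrank (IsNoetherian.noetherian (maximalIdeal R))
      choose l hl using hq
      have hspan : maximalIdeal P = Ideal.span (l '' (t : Set R)) := by
        have hle : Ideal.span (l '' (t : Set R)) ≤ maximalIdeal P := Ideal.span_le.2 (by
          rintro _ ⟨y, hy, rfl⟩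
          intro hu
          have hy' : y ∈ maximalIdeal R := hts ▸ Submodule.subset_span hy
          exact hy' ((hl y) ▸ hu.map q))
        refine le_antisymm ?_ hle
        refine Submodule.le_of_le_smul_of_le_jacobson_bot (I := maximalIdeal P) (IsNoetherian.noetherian _)
          (maximalIdeal_le_jacobson _) fun a ha => ?_
        have h1 : q a ∈ (Ideal.span (l '' (t : Set R))).map q := by
          rw [Ideal.map_span, ← Set.image_comp, show q ∘ l = id from funext hl, Set.image_id]
          exact (hts.symm.le) (hmR.le (Ideal.mem_map_of_mem q ha))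
        obtain ⟨b, hb, hba⟩ := (Ideal.mem_map_iff_of_surjective q fun y => ⟨l y, hl y⟩).1 h1
        refine Submodule.mem_sup.2 ⟨b, hb, a - b, ?_, add_sub_cancel b a⟩
        rw [smul_eq_mul, ← pow_two]
        exact hsq (by rw [RingHom.mem_ker, map_sub, hba, sub_self])
      rw [hspan, ← htc]
      exact (Submodule.spanFinrank_span_le_ncard_of_finite (t.finite_toSet.image l)).trans
        ((Set.ncard_image_le t.finite_toSet).trans (Set.ncard_coe_finset _).le)
  have hP : ringKrullDim P = (Module.finrank (ResidueField R) (CotangentSpace R) : WithBot ℕ∞) := by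
    rw [← spanFinrank_maximalIdeal_eq_finrank_cotangentSpace, hd, IsRegularLocalRing.spanFinrank_maximalIdeal]
  have hle : ringKrullDim R ≤ ringKrullDim P := ringKrullDim_le_of_surjective q hq
  have hge : ringKrullDim P ≤ ringKrullDim R + (s.card : WithBot ℕ∞) := by
    refine (ringKrullDim_le_ringKrullDim_quotient_add_card (s := s) ?_).trans_eq ?_
    · rw [IsLocalRing.ringJacobson_eq_maximalIdeal]
      intro x hx
      exact (hsq.trans (Ideal.pow_le_self two_ne_zero)) (hs ▸ Submodule.subset_span hx)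
    · rw [ringKrullDim_eq_of_ringEquiv ((Ideal.quotEquivOfEq hs).trans (RingHom.quotientKerEquivOfSurjective hq))]
  have hcard : (s.card : WithBot ℕ∞) ≤ (r : WithBot ℕ∞) := Nat.cast_le.2 hr
  refine ⟨hP ▸ hle, hP ▸ hge.trans (add_le_add_right hcard _), fun h0 => ?_, fun heq => ?_⟩
  · have hs0 : s = ∅ := Finset.card_eq_zero.1 (Nat.le_zero.1 (h0 ▸ hr))
    have hinj : Function.Injective q := by
      rw [RingHom.injective_iff_ker_eq_bot, ← hs, hs0, Finset.coe_empty, Ideal.span_empty]
    exact IsRegularLocalRing.of_ringEquiv (RingEquiv.ofBijective q ⟨hinj, hq⟩)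
  · refine ⟨P, inferInstance, inferInstance, q, s, hq, hs, le_antisymm hge ?_⟩
    rw [hP, ← heq]
    exact add_le_add_right hcard _

end Groth.Agent.ArtObs
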