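import Groth.Agent.ArtKit.PSRing
import Groth.Agent.ArtObs.Bound
import Groth.Agent.ObsBound.Lifting
import Groth.Agent.SerreReg.Regular
import Mathlib.RingTheory.KrullDimension.NonZeroDivisors
import Mathlib.RingTheory.RegularLocalRing.Polynomial

/-!
# Regular models: power series rings and local rings of schemes of finite type
-/

set_option autoImplicit false
universe u

noncomputable section
open IsLocalRing MvPowerSeries

namespace Groth.Agent.ArtObs

variable (k : Type u) [Field k]

lemma isAdicComplete_ps (d : ℕ) :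
    IsAdicComplete (maximalIdeal (MvPowerSeries (Fin d) k)) (MvPowerSeries (Fin d) k) := by
  rw [← ArtPow.span_X_eq_maximalIdeal]; infer_instance

theorem dim_ps_ge (d : ℕ) : (d : WithBot ℕ∞) ≤ ringKrullDim (MvPowerSeries (Fin d) k) := by
  induction d with
  | zero => exact_mod_cast ringKrullDim_nonneg_of_nontrivial
  | succ d ih =>
    have := isAdicComplete_ps k d
    have := isAdicComplete_ps k (d + 1)
    have hX : ∀ {n : ℕ} (i : Fin n), (X i : MvPowerSeries (Fin n) k) ∈ maximalIdeal (MvPowerSeries (Fin n) k) :=
      fun i => ArtPow.span_X_eq_maximalIdeal (k := k).le (Ideal.subset_span ⟨i, rfl⟩)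
    obtain ⟨f, hf⟩ := ArtKit.exists_evalAdic (R := k) (maximalIdeal (MvPowerSeries (Fin d) k))
      (Fin.lastCases (0 : MvPowerSeries (Fin d) k) (fun i => X i)) (fun i => by
        induction i using Fin.lastCases with
        | last => simp
        | cast i => simpa using hX i)
    obtain ⟨g, hg⟩ := ArtKit.exists_evalAdic (R := k) (maximalIdeal (MvPowerSeries (Fin (d + 1)) k))
      (fun i : Fin d => X i.castSucc) (fun i => hX _)
    have hfg : f.comp g = AlgHom.id k _ := ArtKit.algHom_ext_adic (maximalIdeal (MvPowerSeries (Fin d) k))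
      (fun i => by simp [hg, hf]) (fun i => by simp [hg, hf, hX])
    refine le_trans ?_ (ringKrullDim_succ_le_of_surjective f.toRingHom
      (fun y => ⟨g y, DFunLike.congr_fun hfg y⟩) (MvPowerSeries.X_mem_nonzeroDivisors (i := Fin.last d))
      (by show f (X (Fin.last d)) = 0; rw [hf]; simp))
    push_cast
    exact add_le_add ih le_rfl

instance isRegularLocalRing_ps (d : ℕ) : IsRegularLocalRing (MvPowerSeries (Fin d) k) := by
  refine IsRegularLocalRing.of_spanFinrank_maximalIdeal_le _ (le_trans ?_ (dim_ps_ge k d))
  rw [← ArtPow.span_X_eq_maximalIdeal]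
  refine Nat.cast_le.2 ((Submodule.spanFinrank_span_le_ncard_of_finite (Set.finite_range _)).trans ?_)
  rw [← Set.image_univ]
  exact (Set.ncard_image_le Set.finite_univ).trans (by simp)

/-- A local ring of a scheme of finite type is a quotient of a regular local ring with the relations in `m²`. -/
theorem exists_minimal_regular_model (R : Type u) [CommRing R] [IsLocalRing R] [Algebra k R]
    [Algebra.EssFiniteType k R] (res : R →ₐ[k] k) :
    ∃ (P : Type u) (_ : CommRing P) (_ : IsRegularLocalRing P) (_ : Algebra k P) (resP : P →ₐ[k] k)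
      (q : P →ₐ[k] R), Function.Surjective q ∧ res.comp q = resP ∧ RingHom.ker q ≤ maximalIdeal P ^ 2 := by
  have hres : Function.Surjective (algebraMap k (ResidueField R)) := fun y => by
    obtain ⟨a, rfl⟩ := residue_surjective y
    refine ⟨res a, ?_⟩
    rw [IsScalarTower.algebraMap_apply k R (ResidueField R)]
    have hk : RingHom.ker res = maximalIdeal R := IsLocalRing.eq_maximalIdeal
      (RingHom.ker_isMaximal_of_surjective _ fun c => ⟨algebraMap k R c, res.commutes c⟩)
    refine (Ideal.Quotient.eq).2 (hk.le (RingHom.mem_ker.2 ?_))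
    rw [map_sub, AlgHom.commutes]
    exact sub_self _
  obtain ⟨B, m, hB, hm, ⟨e⟩⟩ := ObsBound.exists_model k R hres
  obtain ⟨n, π, hπ⟩ := Algebra.FiniteType.iff_quotient_mvPolynomial''.1 hB
  let M := m.comap π.toRingHom
  have : M.IsMaximal := Ideal.comap_isMaximal_of_surjective π.toRingHom hπ
  let ψ := Localization.localRingHom M m π.toRingHom rfl
  have hψ : Function.Surjective ψ := RingHom.surjective_localRingHom_of_surjective π.toRingHom hπ m
  let ψ' : Localization.AtPrime M →ₐ[k] Localization.AtPrime m := AlgHom.mk ψ fun x => by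
    show ψ (algebraMap k (Localization.AtPrime M) x) = _
    rw [IsScalarTower.algebraMap_apply k (MvPolynomial (Fin n) k) (Localization.AtPrime M),
      Localization.localRingHom_to_map, IsScalarTower.algebraMap_apply k B (Localization.AtPrime m)]
    exact congrArg _ (π.commutes x)
  -- descend until the relations lie in the square
  suffices key : ∀ (d : ℕ) (P : Type u) [CommRing P] [IsRegularLocalRing P] [Algebra k P] (q : P →ₐ[k] R),
      Function.Surjective q → (maximalIdeal P).spanFinrank ≤ d →
      ∃ (P : Type u) (_ : CommRing P) (_ : IsRegularLocalRing P) (_ : Algebra k P) (resP : P →ₐ[k] k)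
        (q : P →ₐ[k] R), Function.Surjective q ∧ res.comp q = resP ∧ RingHom.ker q ≤ maximalIdeal P ^ 2 from
    key _ _ (e.toAlgHom.comp ψ') (e.surjective.comp hψ) le_rfl
  intro d
  induction d with
  | zero =>
    intro P _ _ _ q hq hd
    have hbot : maximalIdeal P = ⊥ :=
      (Submodule.spanFinrank_eq_zero_iff_eq_bot (IsNoetherian.noetherian _)).1 (Nat.le_zero.1 hd)
    exact ⟨P, inferInstance, inferInstance, inferInstance, res.comp q, q, hq, rfl, by
      rw [hbot, ← hbot]
      exact (IsLocalRing.le_maximalIdeal (RingHom.ker_ne_top q)).trans (by rw [hbot]; exact bot_le)⟩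
  | succ d ih =>
    intro P _ _ _ q hq hd
    by_cases h : RingHom.ker q ≤ maximalIdeal P ^ 2
    · exact ⟨P, inferInstance, inferInstance, inferInstance, res.comp q, q, hq, rfl, h⟩
    obtain ⟨x, hx, hx2⟩ := SetLike.not_le_iff_exists.1 h
    have hxm : x ∈ maximalIdeal P := IsLocalRing.le_maximalIdeal (RingHom.ker_ne_top q) hx
    obtain ⟨hreg, hsmul⟩ := SerreReg.isRegularLocalRing_quot hxm hx2
    refine ih (P ⧸ Ideal.span {x}) (Ideal.Quotient.liftₐ (Ideal.span {x}) q fun a ha =>
      RingHom.mem_ker.1 ((Ideal.span_singleton_le_iff_mem _).2 hx ha)) (fun y => ?_) ?_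
    · obtain ⟨a, ha⟩ := hq y
      exact ⟨Ideal.Quotient.mk _ a, ha⟩
    · have h1 := ringKrullDim_quotient_span_singleton_succ_eq_ringKrullDim hsmul hxm
      rw [← IsRegularLocalRing.spanFinrank_maximalIdeal (R := P), ← IsRegularLocalRing.spanFinrank_maximalIdeal] at h1
      have h2 : (maximalIdeal (P ⧸ Ideal.span {x})).spanFinrank + 1 = (maximalIdeal P).spanFinrank := by
        exact_mod_cast h1
      omega

end Groth.Agent.ArtObs
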